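import Cfsg.Agent.Lib.FischerInvol24.Pair
import Cfsg.Agent.Lib.FischerPresented.Fi22Outer
import Cfsg.Agent.Lib.Fi22Local.TripleTransport

/-!
The involution classes of a group of type M(24).
-/

set_option autoImplicit false
set_option maxRecDepth 100000

namespace Cfsg.Agent.FischerInvol24

open Cfsg.Agent.Fischer
open Cfsg.Agent.Fischer.Factor
open Cfsg.Agent.Fi22Local
open Cfsg.Agent.FischerPresented
open Cfsg.Agent.FischerUnique.InvolutionClasses (Fac)

local notation "W" => Fi22Class.D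

universe u

variable {G : Type u} [Group G] [Finite G] {D : Set G}

/-- Unique images of the members commuting with both. -/
theorem PairMap.inj (F : Facts D) {d e : G} (hd : d ∈ D) (he : e ∈ Nb D d)
    {π : ↥(Subgroup.centralizer ({d, e} : Set G)) →* GG} (P : PairMap D d e π)
    {a b : ↥(Subgroup.centralizer ({d, e} : Set G))} (ha : (a : G) ∈ Nb D d) (ha' : (a : G) ∈ Nb D e)
    (hb : (b : G) ∈ Nb D d) (h : π a = π b) : a = b := by
  have h1 : π (a⁻¹ * b) = 1 := by rw [map_mul, map_inv, h, inv_mul_cancel]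
  rcases (P.ker _).1 h1 with h2 | h2 | h2 | h2 <;>
    rw [Subgroup.coe_mul, Subgroup.coe_inv, inv_mul_eq_iff_eq_mul] at h2
  · exact Subtype.ext (by rw [h2, mul_one])
  · exact absurd (F.parity (l := [(b : G)]) (l' := [(a : G), d]) (by simp [hb.1]) (by simp [ha.1, hd])
      (by simp [h2])) (by simp [Nat.even_iff])
  · exact absurd (F.parity (l := [(b : G)]) (l' := [(a : G), e]) (by simp [hb.1]) (by simp [ha.1, he.1])
      (by simp [h2])) (by simp [Nat.even_iff])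
  · exfalso
    refine F.not_fac_three_mem (x := (b : G)) ⟨[(a : G), d, e], ?_, rfl, by simp [ha.1, hd, he.1], ?_,
      by simp [h2, mul_assoc]⟩ hb.1
    · simp [ha.2.1, ha'.2.1, he.2.1.symm]
    · simp [ha.2.2, ha.2.2.symm, ha'.2.2, ha'.2.2.symm, he.2.2, he.2.2.symm]

theorem PairMap.comm (F : Facts D) {d e : G}
    {π : ↥(Subgroup.centralizer ({d, e} : Set G)) →* GG} (P : PairMap D d e π)
    {a b : ↥(Subgroup.centralizer ({d, e} : Set G))} (ha : (a : G) ∈ D) (hb : (b : G) ∈ D)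
    (h : Commute (π a) (π b)) : Commute (a : G) (b : G) := by
  by_contra hn
  have hc := TSet.cube F.tg.1 ha hb hn
  have h1 : π ((a * b) ^ 2) = 1 := by
    rw [map_pow, map_mul, h.mul_pow, ← map_pow, ← map_pow, show a ^ 2 = 1 from Subtype.ext (by
      rw [SubmonoidClass.coe_pow, pow_two, F.sq ha]; rfl), show b ^ 2 = 1 from Subtype.ext (by
      rw [SubmonoidClass.coe_pow, pow_two, F.sq hb]; rfl), map_one, mul_one]
  have hz : ∀ g : ↥(Subgroup.centralizer ({d, e} : Set G)), Commute (((a * b) ^ 2 :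
      ↥(Subgroup.centralizer ({d, e} : Set G))) : G) (g : G) := by
    intro g
    have hgd := Subgroup.mem_centralizer_iff.1 g.2 d (Or.inl rfl)
    have hge := Subgroup.mem_centralizer_iff.1 g.2 e (Or.inr rfl)
    rcases (P.ker _).1 h1 with h2 | h2 | h2 | h2 <;> rw [h2]
    exacts [Commute.one_left _, hgd, hge, (show Commute d (g : G) from hgd).mul_left hge]
  have h3 := hz a
  rw [SubmonoidClass.coe_pow, Subgroup.coe_mul] at h3
  have h4 : ((a : G) * b) ^ 2 = ((a : G) * b)⁻¹ := eq_inv_of_mul_eq_one_left (by rw [← pow_succ]; exact hc)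
  rw [h4, Commute.inv_left_iff] at h3
  refine hn ?_
  have h5 : (b : G) = (a : G) * (a * b) := by rw [← mul_assoc, F.sq ha, one_mul]
  rw [h5]
  exact (Commute.refl _).mul_right h3.symm

variable (F : Facts D)
include F

/-- The neighbours of a transposition are odd in number. -/
theorem Facts.odd_nb {d : G} (hd : d ∈ D) : Nat.card ↥(Nb D d) = 31671 := by
  have htq := img_group F.tg F.trans F.free hd
  obtain ⟨Φ, hΦ⟩ := F.model d hd
  have h1 : Nat.card ↥(img D d) = 31671 := by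
    rw [← hΦ, Nat.card_image_of_injective Φ.injective, Fi23.card_D]
  rw [← h1]
  refine Nat.card_eq_of_bijective (fun y => ⟨QuotientGroup.mk ⟨y.1, nb_subset y.2⟩, _, y.2, rfl⟩)
    ⟨fun a b h => ?_, ?_⟩
  · have e1 := img_inj F.tg F.trans F.free hd (x := ⟨a.1, nb_subset a.2⟩) (y := ⟨b.1, nb_subset b.2⟩) a.2 b.2
      (congrArg Subtype.val h)
    exact Subtype.ext (Subtype.mk.inj e1)
  · rintro ⟨_, x, hx, rfl⟩
    exact ⟨⟨x, hx⟩, rfl⟩

/-- An involution fixing a transposition fixes one of its neighbours. -/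
theorem Facts.second_fixed {x : G} (hx : x * x = 1) {d : G} (hd : d ∈ D) (hxd : x * d * x⁻¹ = d) :
    ∃ e ∈ Nb D d, x * e * x⁻¹ = e := by
  classical
  haveI : Fintype ↥(Nb D d) := Fintype.ofFinite _
  have hinv : Function.Involutive (fun y : ↥(Nb D d) => (⟨x * y.1 * x⁻¹, by
      have := nb_conj F.tg x y.2
      rwa [hxd] at this⟩ : ↥(Nb D d))) := fun y => Subtype.ext (by
    show x * (x * y.1 * x⁻¹) * x⁻¹ = _
    rw [← mul_assoc, ← mul_assoc, hx, one_mul, mul_assoc, ← mul_inv_rev, hx, inv_one, mul_one])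
  haveI := Fact.mk Nat.prime_two
  obtain ⟨y, hy⟩ := Equiv.Perm.exists_fixed_point_of_prime (p := 2) (n := 1) (α := ↥(Nb D d))
    (by rw [← Nat.card_eq_fintype_card, F.odd_nb hd]; decide) (σ := hinv.toPerm _)
    (Equiv.ext fun y => by simpa [pow_two, Equiv.Perm.mul_apply] using hinv y)
  exact ⟨y.1, y.2, congrArg Subtype.val hy⟩

/-- Every involution commutes with a transposition. -/
theorem Facts.exists_fixed {x : G} (hx : x * x = 1) {d : G} (hd : d ∈ D) :
    ∃ a ∈ D, x * a * x⁻¹ = a := by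
  classical
  by_cases hde : x * d * x⁻¹ = d
  · exact ⟨d, hd, hde⟩
  obtain ⟨e, hedef⟩ : ∃ e, x * d * x⁻¹ = e := ⟨_, rfl⟩
  rw [hedef] at hde
  have he : e ∈ D := hedef ▸ F.conj x hd
  have hxe : x * e * x⁻¹ = d := by
    rw [← hedef, ← mul_assoc, ← mul_assoc, hx, one_mul, mul_assoc, ← mul_inv_rev, hx, inv_one, mul_one]
  by_cases hc : Commute d e
  swap
  · refine ⟨e * d * e, ?_, ?_⟩
    · have := F.conj e hd
      rwa [TSet.inv F.tg.1 he] at this
    · have e1 : x * (e * d * e) * x⁻¹ = (x * e * x⁻¹) * (x * d * x⁻¹) * (x * e * x⁻¹) := by group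
      rw [e1, hxe, hedef, TSet.braid F.tg.1 hd he hc]
  have hen : e ∈ Nb D d := ⟨he, hde, hc⟩
  obtain ⟨π, P⟩ := F.pair_map hd hen
  obtain ⟨c, hcv⟩ : ∃ c : ↥(Subgroup.centralizer ({d, e} : Set G)) →*
      ↥(Subgroup.centralizer ({d, e} : Set G)), ∀ g, (c g : G) = x * g * x⁻¹ := by
    refine ⟨((MulAut.conj x).toMonoidHom.comp (Subgroup.subtype _)).codRestrict _ fun g => ?_, fun g => rfl⟩
    have h1 := Subgroup.mem_centralizer_iff.1 g.2 d (Or.inl rfl)
    have h2 := Subgroup.mem_centralizer_iff.1 g.2 e (Or.inr rfl)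
    rw [Subgroup.mem_centralizer_iff]
    rintro v (hv | hv)
    · rw [show v = x * e * x⁻¹ from hv.trans hxe.symm]
      exact ((show Commute e (g : G) from h2).map (MulAut.conj x).toMonoidHom).eq
    · rw [show v = x * d * x⁻¹ from (hv : v = e).trans hedef.symm]
      exact ((show Commute d (g : G) from h1).map (MulAut.conj x).toMonoidHom).eq
  have hcc : ∀ g, c (c g) = g := fun g => Subtype.ext (by
    rw [hcv, hcv, ← mul_assoc, ← mul_assoc, hx, one_mul, mul_assoc, ← mul_inv_rev, hx, inv_one, mul_one])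
  have hker : π.ker ≤ (π.comp c).ker := by
    intro g hg
    rw [MonoidHom.mem_ker, MonoidHom.comp_apply, P.ker, hcv]
    rcases (P.ker g).1 hg with h | h | h | h <;> rw [h]
    · left; rw [mul_one, mul_inv_cancel]
    · exact Or.inr (Or.inr (Or.inl hedef))
    · exact Or.inr (Or.inl hxe)
    · right; right; right
      rw [show x * (d * e) * x⁻¹ = (x * d * x⁻¹) * (x * e * x⁻¹) by group, hedef, hxe, hc.eq]
  obtain ⟨φ, hφ⟩ : ∃ φ : GG →* GG, ∀ g, φ (π g) = π (c g) :=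
    ⟨π.liftOfSurjective P.surj ⟨π.comp c, hker⟩, fun g => MonoidHom.liftOfRightInverse_comp_apply π _ _ _ g⟩
  have hφφ : φ.comp φ = MonoidHom.id GG := by
    refine MonoidHom.ext fun w => ?_
    obtain ⟨g, rfl⟩ := P.surj w
    rw [MonoidHom.comp_apply, hφ, hφ, hcc]; rfl
  obtain ⟨ψ, hψ⟩ : ∃ ψ : MulAut GG, ∀ w, ψ w = φ w := ⟨φ.toMulEquiv φ hφφ hφφ, fun w => rfl⟩
  obtain ⟨w, hw, hfix⟩ : ∃ w ∈ W, φ w = w := by
    by_cases h1 : ψ = 1
    · exact ⟨Fi22Class.z, Fi22Class.mem_D.2 ⟨1, by group⟩, by rw [← hψ, h1]; rfl⟩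
    · obtain ⟨w, hw, hfix⟩ := Fi22Outer.fixes_some ψ (orderOf_eq_prime (by
        refine MulEquiv.ext fun w => ?_
        rw [pow_two, MulAut.mul_apply, hψ, hψ]
        exact DFunLike.congr_fun hφφ w) h1)
      exact ⟨w, hw, (hψ w).symm.trans hfix⟩
  obtain ⟨a, had, hae, rfl⟩ := P.lift w hw
  have hca : ((c a : G) ∈ Nb D d ∧ (c a : G) ∈ Nb D e) := by
    rw [hcv]
    refine ⟨?_, ?_⟩
    · have h1 := nb_conj F.tg x hae
      rw [hxe] at h1
      exact h1
    · have h1 := nb_conj F.tg x had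
      rw [hedef] at h1
      exact h1
  refine ⟨a, had.1, ?_⟩
  rw [← hcv]
  exact congrArg Subtype.val (P.inj F hd hen hca.1 hca.2 had ((hφ a).symm.trans hfix))

/-- A list in Fi22 has a list of lifts. -/
theorem Facts.lift_list {d e : G} (hd : d ∈ D) (he : e ∈ Nb D d)
    {π : ↥(Subgroup.centralizer ({d, e} : Set G)) →* GG} (P : PairMap D d e π) {l : List GG}
    (hn : l.Nodup) (hW : ∀ w ∈ l, w ∈ W) (hc : ∀ a ∈ l, ∀ b ∈ l, Commute a b) :
    ∃ L : List ↥(Subgroup.centralizer ({d, e} : Set G)), L.map π = l ∧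
      (L.map Subtype.val).Nodup ∧ (∀ a ∈ L.map Subtype.val, a ∈ D) ∧
      (∀ a ∈ L.map Subtype.val, a ∈ Nb D d ∧ a ∈ Nb D e) ∧
      (∀ a ∈ L.map Subtype.val, ∀ b ∈ L.map Subtype.val, Commute a b) := by
  classical
  choose f hf1 hf2 hf3 using fun w : {w // w ∈ l} => P.lift w.1 (hW w.1 w.2)
  refine ⟨l.attach.map f, ?_, ?_, ?_, ?_, ?_⟩
  · rw [List.map_map]
    exact (List.map_congr_left fun w _ => hf3 w).trans (List.attach_map_subtype_val l)
  · refine List.Nodup.map Subtype.val_injective (List.Nodup.map (fun u v h => Subtype.ext ?_) hn.attach)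
    rw [← hf3 u, ← hf3 v, h]
  all_goals simp only [List.mem_map, List.mem_attach, true_and, forall_exists_index, and_imp,
    forall_apply_eq_imp_iff₂, forall_apply_eq_imp_iff]
  · exact fun w => (hf1 w).1
  · exact fun w => ⟨hf1 w, hf2 w⟩
  · intro u v
    refine P.comm F (hf1 u).1 (hf1 v).1 ?_
    rw [hf3, hf3]
    exact hc u u.2 v v.2

omit F in
theorem comm_cons {a : G} {l : List G} (h : ∀ b ∈ l, Commute a b)
    (hc : ∀ u ∈ l, ∀ v ∈ l, Commute u v) : ∀ u ∈ a :: l, ∀ v ∈ a :: l, Commute u v := by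
  intro u hu v hv
  rcases List.mem_cons.1 hu with e1 | hu <;> rcases List.mem_cons.1 hv with e2 | hv
  exacts [e1.symm ▸ e2.symm ▸ Commute.refl _, e1.symm ▸ h v hv, e2.symm ▸ (h u hu).symm, hc u hu v hv]

/-- Adding the pair to a list of common neighbours. -/
theorem Facts.fac_cons_pair {d e : G} (hd : d ∈ D) (he : e ∈ Nb D d) {m : ℕ} {l : List G}
    (hn : l.Nodup) (hlen : l.length = m) (hN : ∀ a ∈ l, a ∈ Nb D d ∧ a ∈ Nb D e)
    (hc : ∀ a ∈ l, ∀ b ∈ l, Commute a b) :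
    Fac D (m + 1) (d * l.prod) ∧ Fac D (m + 1) (e * l.prod) ∧ Fac D (m + 2) (d * e * l.prod) := by
  have hdl : d ∉ l := fun h => (hN d h).1.2.1 rfl
  have hel : e ∉ l := fun h => (hN e h).2.2.1 rfl
  refine ⟨⟨d :: l, List.nodup_cons.2 ⟨hdl, hn⟩, by simp [hlen], ?_, ?_, List.prod_cons⟩,
    ⟨e :: l, List.nodup_cons.2 ⟨hel, hn⟩, by simp [hlen], ?_, ?_, List.prod_cons⟩,
    ⟨d :: e :: l, by simp [hdl, hel, hn, he.2.1.symm], by simp [hlen], ?_, ?_, by simp [mul_assoc]⟩⟩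
  · simpa [hd] using fun a ha => (hN a ha).1.1
  · exact comm_cons (fun b hb => (hN b hb).1.2.2) hc
  · simpa [he.1] using fun a ha => (hN a ha).1.1
  · exact comm_cons (fun b hb => (hN b hb).2.2.2) hc
  · simpa [hd, he.1] using fun a ha => (hN a ha).1.1
  · refine comm_cons (fun b hb => ?_) (comm_cons (fun b hb => (hN b hb).2.2.2) hc)
    rcases List.mem_cons.1 hb with e1 | hb
    exacts [e1.symm ▸ he.2.2, (hN b hb).1.2.2]

/-- Every involution has at most four factors. -/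
theorem Facts.exists_fac {x : G} (hx : orderOf x = 2) {d₀ : G} (hd₀ : d₀ ∈ D) :
    ∃ m, 1 ≤ m ∧ m ≤ 4 ∧ Fac D m x := by
  have hx2 : x * x = 1 := mul_self_of_orderOf_two hx
  have hx1 : x ≠ 1 := ne_one_of_orderOf_two hx
  obtain ⟨d, hd, hxd⟩ := F.exists_fixed hx2 hd₀
  obtain ⟨e, he, hxe⟩ := F.second_fixed hx2 hd hxd
  obtain ⟨π, P⟩ := F.pair_map hd he
  obtain ⟨X, hX⟩ : ∃ X : ↥(Subgroup.centralizer ({d, e} : Set G)), (X : G) = x := by
    refine ⟨⟨x, Subgroup.mem_centralizer_iff.2 ?_⟩, rfl⟩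
    rintro v (rfl | rfl)
    · exact (mul_inv_eq_iff_eq_mul.1 hxd).symm
    · exact (mul_inv_eq_iff_eq_mul.1 hxe).symm
  by_cases hπ : π X = 1
  · rcases (P.ker X).1 hπ with h | h | h | h <;> rw [hX] at h
    · exact absurd h hx1
    · exact ⟨1, le_rfl, by norm_num, [d], List.nodup_singleton d, rfl, by simp [hd], by simp, by simp [h]⟩
    · exact ⟨1, le_rfl, by norm_num, [e], List.nodup_singleton e, rfl, by simp [he.1], by simp, by simp [h]⟩
    · obtain ⟨-, -, h2⟩ := F.fac_cons_pair hd he (m := 0) List.nodup_nil rfl (by simp) (by simp)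
      exact ⟨2, by norm_num, by norm_num, by rwa [List.prod_nil, mul_one, ← h] at h2⟩
  have ho : orderOf (π X) = 2 := orderOf_eq_prime (by
    rw [← map_pow, show X ^ 2 = 1 from Subtype.ext (by rw [SubmonoidClass.coe_pow, hX, pow_two, hx2]; rfl),
      map_one]) hπ
  obtain ⟨m, h1, h3, l, hn, hlen, hW, hc, hp⟩ :=
    FischerUnique.InvolutionClasses.exists_fac (MulEquiv.refl GG) (Set.image_id W) (π X) ho
  obtain ⟨L, hL, hLn, hLD, hLN, hLc⟩ := F.lift_list hd he P hn hW hc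
  obtain ⟨y, hy⟩ : ∃ y, (L.map Subtype.val).prod = y := ⟨_, rfl⟩
  have hLlen : (L.map Subtype.val).length = m := by rw [List.length_map, ← List.length_map π, hL, hlen]
  obtain ⟨f1, f2, f3⟩ := F.fac_cons_pair hd he hLn hLlen hLN hLc
  have hk : π (L.prod⁻¹ * X) = 1 := by rw [map_mul, map_inv, map_list_prod, hL, hp, inv_mul_cancel]
  have hval : (L.prod : G) = y := by rw [Subgroup.val_list_prod, hy]
  have hyd : Commute y d := hval ▸ (Subgroup.mem_centralizer_iff.1 L.prod.2 d (Or.inl rfl)).symm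
  have hye : Commute y e := hval ▸ (Subgroup.mem_centralizer_iff.1 L.prod.2 e (Or.inr rfl)).symm
  rcases (P.ker _).1 hk with h | h | h | h <;>
    rw [Subgroup.coe_mul, Subgroup.coe_inv, hX, hval, inv_mul_eq_iff_eq_mul] at h
  · exact ⟨m, h1, by omega, L.map Subtype.val, hLn, hLlen, hLD, hLc, by rw [h, mul_one, hy]⟩
  · exact ⟨m + 1, by omega, by omega, by rw [h, hyd.eq, ← hy]; exact f1⟩
  · exact ⟨m + 1, by omega, by omega, by rw [h, hye.eq, ← hy]; exact f2⟩
  · have hx' : x = d * e * y := by rw [h, (hyd.mul_right hye).eq]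
    rcases (show m ≤ 2 ∨ m = 3 by omega) with hm | rfl
    · exact ⟨m + 2, by omega, by omega, by rw [hx', ← hy]; exact f3⟩
    -- five factors reduce to three
    obtain ⟨l₁, l₂, q₁, q₂, hne, -⟩ := Fi22Local.Triple.triple_statement (e := MulEquiv.refl GG)
      (Set.image_id W) (π X) l ⟨hn, hlen, hW, hc, hp⟩
    obtain ⟨l', hn', hlen', hW', hc', hp', hdiff⟩ : ∃ l' : List GG, l'.Nodup ∧ l'.length = 3 ∧
        (∀ a ∈ l', a ∈ W) ∧ (∀ a ∈ l', ∀ b ∈ l', Commute a b) ∧ l'.prod = π X ∧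
        ¬ ∀ z, z ∈ l ↔ z ∈ l' := by
      by_cases h' : ∀ z, z ∈ l ↔ z ∈ l₁
      · exact ⟨l₂, q₂.1, q₂.2.1, q₂.2.2.1, q₂.2.2.2.1, q₂.2.2.2.2,
          fun h'' => hne fun z => (h' z).symm.trans (h'' z)⟩
      · exact ⟨l₁, q₁.1, q₁.2.1, q₁.2.2.1, q₁.2.2.2.1, q₁.2.2.2.2, h'⟩
    obtain ⟨M, hM, hMn, hMD, hMN, hMc⟩ := F.lift_list hd he P hn' hW' hc'
    have hMlen : (M.map Subtype.val).length = 3 := by rw [List.length_map, ← List.length_map π, hM, hlen']
    obtain ⟨y', hy'⟩ : ∃ y', (M.map Subtype.val).prod = y' := ⟨_, rfl⟩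
    have hval' : (M.prod : G) = y' := by rw [Subgroup.val_list_prod, hy']
    have hk' : π (L.prod⁻¹ * M.prod) = 1 := by
      rw [map_mul, map_inv, map_list_prod, map_list_prod, hL, hM, hp, hp', inv_mul_cancel]
    rcases (P.ker _).1 hk' with h' | h' | h' | h' <;>
      rw [Subgroup.coe_mul, Subgroup.coe_inv, hval', hval, inv_mul_eq_iff_eq_mul] at h'
    · refine absurd (fun z => ?_) hdiff
      have hset := unique_factor F.tg.1 F.h4 F.h6 3 le_rfl _ _ hLn hMn hLlen hMlen hLD hMD hLc hMc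
        (by rw [hy, hy', h', mul_one])
      rw [← hL, ← hM]
      simp only [List.mem_map]
      constructor <;> rintro ⟨a, ha, rfl⟩
      · obtain ⟨b, hb, hab⟩ := List.mem_map.1 ((hset a).1 (List.mem_map.2 ⟨a, ha, rfl⟩))
        exact ⟨b, hb, by rw [Subtype.ext hab]⟩
      · obtain ⟨b, hb, hab⟩ := List.mem_map.1 ((hset a).2 (List.mem_map.2 ⟨a, ha, rfl⟩))
        exact ⟨b, hb, by rw [Subtype.ext hab]⟩
    · have := F.fac_parity (x := y') ⟨_, hMn, hMlen, hMD, hMc, hy'⟩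
        (by rw [h', hyd.eq, ← hy]; exact f1)
      simp [Nat.even_add_one] at this
    · have := F.fac_parity (x := y') ⟨_, hMn, hMlen, hMD, hMc, hy'⟩
        (by rw [h', hye.eq, ← hy]; exact f2)
      simp [Nat.even_add_one] at this
    · exact ⟨3, by norm_num, by norm_num, M.map Subtype.val, hMn, hMlen, hMD, hMc, by rw [hy', h', h]⟩

/-- A first factor can be moved to any transposition, a second to any neighbour. -/
theorem Facts.to_std {d e : G} (hd : d ∈ D) (he : e ∈ Nb D d) {m : ℕ} {x : G} (h : Fac D (m + 2) x) :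
    ∃ g : G, ∃ l : List G, l.Nodup ∧ l.length = m ∧ (∀ a ∈ l, a ∈ Nb D d ∧ a ∈ Nb D e) ∧
      (∀ a ∈ l, ∀ b ∈ l, Commute a b) ∧ g * x * g⁻¹ = d * e * l.prod := by
  obtain ⟨l, hn, hlen, hD, hc, rfl⟩ := h
  match l, hlen with
  | a :: b :: t, hlen =>
    obtain ⟨g, hg⟩ := F.trans a (hD a (by simp)) d hd
    simp only [List.nodup_cons, List.mem_cons, not_or] at hn
    have hb : b ∈ Nb D a := ⟨hD b (by simp), Ne.symm hn.1.1, hc a (by simp) b (by simp)⟩
    have hgb : g * b * g⁻¹ ∈ Nb D d := hg ▸ nb_conj F.tg g hb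
    obtain ⟨q, hq⟩ := (F.qprim d hd).1 _ ⟨⟨_, nb_subset hgb⟩, hgb, rfl⟩ _ ⟨⟨e, nb_subset he⟩, he, rfl⟩
    obtain ⟨u, rfl⟩ := QuotientGroup.mk_surjective q
    have hud : (u : G) * d * (u : G)⁻¹ = d := conj_eq_self_of_commute (commute_of_mem_closure_nb u.2).symm
    have hue : (u : G) * (g * b * g⁻¹) * (u : G)⁻¹ = e := by
      have hN := nb_conj F.tg (u : G) hgb
      rw [hud] at hN
      rw [← QuotientGroup.mk_inv, ← QuotientGroup.mk_mul, ← QuotientGroup.mk_mul] at hq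
      exact congrArg Subtype.val (img_inj F.tg F.trans F.free hd (x := u * ⟨_, nb_subset hgb⟩ * u⁻¹)
        (by simpa using hN) (y := ⟨e, nb_subset he⟩) he hq)
    set k : G := (u : G) * g with hk
    have hka : k * a * k⁻¹ = d := by
      rw [hk, show (u : G) * g * a * ((u : G) * g)⁻¹ = (u : G) * (g * a * g⁻¹) * (u : G)⁻¹ by group, hg, hud]
    have hkb : k * b * k⁻¹ = e := by
      rw [hk, show (u : G) * g * b * ((u : G) * g)⁻¹ = (u : G) * (g * b * g⁻¹) * (u : G)⁻¹ by group, hue]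
    refine ⟨k, t.map (MulAut.conj k), hn.2.2.map (MulAut.conj k).injective,
      by simp at hlen; simp [hlen], ?_, ?_, ?_⟩
    · intro c hc'
      obtain ⟨v, hv, rfl⟩ := List.mem_map.1 hc'
      have hav : v ∈ Nb D a := ⟨hD v (by simp [hv]), fun h => hn.1.2 (h ▸ hv), hc a (by simp) v (by simp [hv])⟩
      have hbv : v ∈ Nb D b := ⟨hD v (by simp [hv]), fun h => hn.2.1 (h ▸ hv), hc b (by simp) v (by simp [hv])⟩
      exact ⟨hka ▸ nb_conj F.tg k hav, hkb ▸ nb_conj F.tg k hbv⟩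
    · intro c hc' c' hc''
      obtain ⟨v, hv, rfl⟩ := List.mem_map.1 hc'
      obtain ⟨w, hw, rfl⟩ := List.mem_map.1 hc''
      exact (hc v (by simp [hv]) w (by simp [hw])).map (MulAut.conj k).toMonoidHom
    · rw [← map_list_prod, List.prod_cons, List.prod_cons, MulAut.conj_apply, ← hka, ← hkb]
      group

/-- Products of the same number of factors are conjugate. -/
theorem Facts.fac_conjugate {d e : G} (hd : d ∈ D) (he : e ∈ Nb D d) {m : ℕ} (h1 : 1 ≤ m) (h4 : m ≤ 4)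
    {x y : G} (hx : Fac D m x) (hy : Fac D m y) : IsConj x y := by
  rcases (show m = 1 ∨ 2 ≤ m by omega) with rfl | h2
  · obtain ⟨l, -, hlen, hD, -, rfl⟩ := hx
    obtain ⟨l', -, hlen', hD', -, rfl⟩ := hy
    match l, hlen, l', hlen' with
    | [a], _, [b], _ =>
      obtain ⟨g, hg⟩ := F.trans a (hD a (by simp)) b (hD' b (by simp))
      exact isConj_iff.2 ⟨g, by simpa using hg⟩
  obtain ⟨k, rfl⟩ : ∃ k, m = k + 2 := ⟨m - 2, by omega⟩
  obtain ⟨g, l, hn, hlen, hN, hc, hgx⟩ := F.to_std hd he hx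
  obtain ⟨g', l', hn', hlen', hN', hc', hgy⟩ := F.to_std hd he hy
  suffices IsConj (d * e * l.prod) (d * e * l'.prod) from
    ((isConj_iff.2 ⟨g, hgx⟩).trans this).trans (isConj_iff.2 ⟨g', hgy⟩).symm
  rcases (show k = 0 ∨ 1 ≤ k by omega) with rfl | hk1
  · rw [List.length_eq_zero_iff.1 hlen, List.length_eq_zero_iff.1 hlen']
  obtain ⟨π, P⟩ := F.pair_map hd he
  have himg : ∀ (l : List G), l.Nodup → l.length = k → (∀ a ∈ l, a ∈ Nb D d ∧ a ∈ Nb D e) →
      (∀ a ∈ l, ∀ b ∈ l, Commute a b) → ∃ R : ↥(Subgroup.centralizer ({d, e} : Set G)),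
        (R : G) = l.prod ∧ Fac W k (π R) := by
    intro l hn hlen hN hc
    have hmem : ∀ a ∈ l, a ∈ Subgroup.centralizer ({d, e} : Set G) := fun a ha => by
      rw [Subgroup.mem_centralizer_iff]
      rintro v (rfl | rfl)
      · exact (hN a ha).1.2.2.eq
      · exact (hN a ha).2.2.2.eq
    obtain ⟨L, hL⟩ : ∃ L : List ↥(Subgroup.centralizer ({d, e} : Set G)), L.map Subtype.val = l :=
      ⟨l.pmap Subtype.mk hmem, by simp [List.map_pmap]⟩
    have hmL : ∀ a ∈ L, (a : G) ∈ l := fun a ha => hL ▸ List.mem_map.2 ⟨a, ha, rfl⟩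
    refine ⟨L.prod, by rw [Subgroup.val_list_prod, hL], L.map π, ?_, ?_, ?_, ?_, (map_list_prod π L).symm⟩
    · exact (List.Nodup.of_map Subtype.val (hL ▸ hn)).map_on fun a ha b hb h =>
        P.inj F hd he (hN _ (hmL a ha)).1 (hN _ (hmL a ha)).2 (hN _ (hmL b hb)).1 h
    · rw [List.length_map, ← hlen, ← hL, List.length_map]
    · intro w hw
      obtain ⟨a, ha, rfl⟩ := List.mem_map.1 hw
      exact P.mem a (hN _ (hmL a ha)).1 (hN _ (hmL a ha)).2
    · intro u hu v hv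
      obtain ⟨a, ha, rfl⟩ := List.mem_map.1 hu
      obtain ⟨b, hb, rfl⟩ := List.mem_map.1 hv
      exact (show Commute a b from Subtype.ext (hc _ (hmL a ha) _ (hmL b hb)).eq).map π
  obtain ⟨R, hR, fR⟩ := himg l hn hlen hN hc
  obtain ⟨R', hR', fR'⟩ := himg l' hn' hlen' hN' hc'
  obtain ⟨w, hw⟩ := isConj_iff.1
    ((FischerUnique.InvolutionClasses.classes (MulEquiv.refl GG) (Set.image_id W) k hk1 (by omega)).2 _ _ fR fR')
  obtain ⟨u, rfl⟩ := P.surj w
  have hud : Commute (u : G) d := (Subgroup.mem_centralizer_iff.1 u.2 d (Or.inl rfl)).symm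
  have hue : Commute (u : G) e := (Subgroup.mem_centralizer_iff.1 u.2 e (Or.inr rfl)).symm
  have f0 : Fac D k (l.prod) := ⟨l, hn, hlen, fun a ha => (hN a ha).1.1, hc, rfl⟩
  have f1 := fac_conj F.tg (u : G) f0
  obtain ⟨gd, ge, gde⟩ := F.fac_cons_pair hd he hn' hlen' hN' hc'
  have hker : π (R'⁻¹ * (u * R * u⁻¹)) = 1 := by
    rw [map_mul, map_inv, map_mul, map_mul, map_inv, hw, inv_mul_cancel]
  have hd' : Commute l'.prod d := (Commute.list_prod_right l' d fun a ha => (hN' a ha).1.2.2).symm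
  have he' : Commute l'.prod e := (Commute.list_prod_right l' e fun a ha => (hN' a ha).2.2.2).symm
  rcases (P.ker _).1 hker with h | h | h | h <;>
    rw [Subgroup.coe_mul, Subgroup.coe_inv, Subgroup.coe_mul, Subgroup.coe_mul, Subgroup.coe_inv, hR, hR',
      inv_mul_eq_iff_eq_mul] at h <;> rw [h] at f1
  · refine isConj_iff.2 ⟨(u : G), ?_⟩
    rw [mul_one] at h
    rw [← h, show (u : G) * (d * e * l.prod) * (u : G)⁻¹ =
      ((u : G) * (d * e)) * l.prod * (u : G)⁻¹ by group, (hud.mul_right hue).eq]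
    group
  · rw [hd'.eq] at f1
    exact absurd (F.fac_parity f1 gd) (by rw [Nat.even_iff, Nat.even_iff]; omega)
  · rw [he'.eq] at f1
    exact absurd (F.fac_parity f1 ge) (by rw [Nat.even_iff, Nat.even_iff]; omega)
  · rw [(hd'.mul_right he').eq] at f1
    exact absurd (F.length_unique f1 gde (by omega) h4) (by omega)

/-- Products of any number up to four exist. -/
theorem Facts.fac_exists {d e : G} (hd : d ∈ D) (he : e ∈ Nb D d) {m : ℕ} (h1 : 1 ≤ m) (h4 : m ≤ 4) :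
    ∃ x, Fac D m x := by
  rcases (show m = 1 ∨ m = 2 ∨ 3 ≤ m by omega) with rfl | rfl | h3
  · exact ⟨d, [d], List.nodup_singleton d, rfl, by simp [hd], by simp, by simp⟩
  · exact ⟨_, (F.fac_cons_pair hd he (m := 0) List.nodup_nil rfl (by simp) (by simp)).2.2⟩
  obtain ⟨k, rfl⟩ : ∃ k, m = k + 2 := ⟨m - 2, by omega⟩
  obtain ⟨π, P⟩ := F.pair_map hd he
  obtain ⟨⟨w, -, l, hn, hlen, hW, hc, -⟩, -⟩ :=
    FischerUnique.InvolutionClasses.classes (MulEquiv.refl GG) (Set.image_id W) k (by omega) (by omega)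
  obtain ⟨L, hL, hLn, -, hLN, hLc⟩ := F.lift_list hd he P hn hW hc
  exact ⟨_, (F.fac_cons_pair hd he hLn
    (by rw [List.length_map, ← List.length_map π, hL, hlen]) hLN hLc).2.2⟩

theorem Facts.exists_nb_pair (hne : D.Nonempty) : ∃ d ∈ D, ∃ e, e ∈ Nb D d := by
  obtain ⟨d, hd⟩ := hne
  obtain ⟨a, ⟨x, hx, -⟩, -⟩ := (F.qprim d hd).2.1
  exact ⟨d, hd, x, hx⟩

end Cfsg.Agent.FischerInvol24
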