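import Cfsg.Agent.Lib.Fischer.TypeMNoRel
import Cfsg.Agent.Lib.FischerUnique23.Unique
import Cfsg.Agent.Lib.FischerUnique.InvolutionClasses

/-!
Products of at most four pairwise commuting transpositions in a group of type M(24): the number of
factors is determined by the product.
-/

set_option autoImplicit false

namespace Cfsg.Agent.FischerInvol24

open Cfsg.Agent.Fischer
open Cfsg.Agent.Fischer.Factor
open Cfsg.Agent.FischerUnique.InvolutionClasses (Fac)

universe u

variable {G : Type u} [Group G] {D : Set G}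

/-- What is used about a group of type M(24). -/
structure Facts (D : Set G) : Prop where
  tg : Cfsg.IsThreeTranspositionGroup D
  free : TwinFree D
  trans : Trans D
  h4 : NoRel D 4
  h6 : NoRel D 6
  par : ∃ N : Subgroup G, N.index = 2 ∧ ∀ d ∈ D, d ∉ N
  cent : ∀ d ∈ D, Subgroup.centralizer ({d} : Set G) ≤ Subgroup.closure (Nb D d)
  kern : ∀ d ∈ D, ∀ g : ↥(Subgroup.closure (Nb D d)), (QuotientGroup.mk g : Q D d) = 1 →
    (g : G) = 1 ∨ (g : G) = d
  qprim : ∀ d ∈ D, Cfsg.IsPrimitiveUnderConj (img D d)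
  model : ∀ d ∈ D, ∃ Φ : CosetCert.Setup.G CosetData.Fi23A.setup ≃* Q D d,
    Φ '' FischerPresented.Fi23.D = img D d

variable (F : Facts D)
include F

theorem Facts.sq {a : G} (ha : a ∈ D) : a * a = 1 := TSet.sq F.tg.1 ha

theorem Facts.conj {a : G} (g : G) (ha : a ∈ D) : g * a * g⁻¹ ∈ D := F.tg.2.1 g a ha

/-- Membership of the even subgroup counts the factors. -/
theorem Facts.mem_par_iff : ∃ N : Subgroup G, ∀ l : List G, (∀ a ∈ l, a ∈ D) →
    (l.prod ∈ N ↔ Even l.length) := by
  obtain ⟨N, hN, hd⟩ := F.par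
  refine ⟨N, fun l => ?_⟩
  induction l with
  | nil => simp
  | cons a t ih =>
    intro h
    have ha : a ∉ N := hd a (h a (by simp))
    rw [List.prod_cons, Subgroup.mul_mem_iff_of_index_two hN, ih fun b hb => h b (by simp [hb]),
      List.length_cons, Nat.even_add_one]
    simp [ha]

/-- Two lists with the same product have lengths of the same parity. -/
theorem Facts.parity {l l' : List G} (hl : ∀ a ∈ l, a ∈ D) (hl' : ∀ a ∈ l', a ∈ D)
    (h : l.prod = l'.prod) : Even l.length ↔ Even l'.length := by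
  obtain ⟨N, hN⟩ := F.mem_par_iff
  rw [← hN l hl, ← hN l' hl', h]

theorem Facts.fac_parity {m m' : ℕ} {x : G} (h : Fac D m x) (h' : Fac D m' x) : Even m ↔ Even m' := by
  obtain ⟨l, -, rfl, hl, -, rfl⟩ := h
  obtain ⟨l', -, rfl, hl', -, e⟩ := h'
  exact F.parity hl hl' e.symm

omit F in
theorem fac_cons {m : ℕ} {a x : G} {l : List G} (hn : (a :: l).Nodup) (hlen : l.length = m)
    (hD : ∀ b ∈ a :: l, b ∈ D) (hc : ∀ b ∈ a :: l, ∀ c ∈ a :: l, Commute b c) (hx : l.prod = x) :
    Fac D m x :=
  ⟨l, (List.nodup_cons.1 hn).2, hlen, fun b hb => hD b (by simp [hb]),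
    fun b hb c hc' => hc b (by simp [hb]) c (by simp [hc']), hx⟩

theorem Facts.not_fac_two_one {x : G} (h : Fac D 2 x) : x ≠ 1 := by
  rintro rfl
  obtain ⟨l, hn, hlen, hD, -, hp⟩ := h
  match l, hlen with
  | [a, b], _ =>
    rw [List.prod_cons, List.prod_cons, List.prod_nil, mul_one, mul_eq_one_iff_eq_inv,
      TSet.inv F.tg.1 (hD b (by simp))] at hp
    simp [hp] at hn

/-- No transposition is a product of three commuting ones. -/
theorem Facts.not_fac_three_mem {x : G} (h : Fac D 3 x) : x ∉ D := by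
  classical
  intro hx
  obtain ⟨l, hn, hlen, hD, hc, hp⟩ := h
  by_cases hxl : x ∈ l
  · have hperm := List.perm_cons_erase hxl
    have e := hperm.prod_eq' (List.pairwise_iff_forall_sublist.2
      fun h => hc _ (h.subset (by simp)) _ (h.subset (by simp)))
    rw [hp, List.prod_cons, left_eq_mul] at e
    exact F.not_fac_two_one ⟨l.erase x, hn.erase x, by rw [List.length_erase_of_mem hxl, hlen],
      fun a ha => hD a (List.mem_of_mem_erase ha),
      fun a ha b hb => hc a (List.mem_of_mem_erase ha) b (List.mem_of_mem_erase hb), rfl⟩ e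
  · refine F.h4 (x :: l) (List.nodup_cons.2 ⟨hxl, hn⟩) (by simp [hlen]) ?_ ?_ ?_
    · simpa [hx] using hD
    · have hcx : ∀ a ∈ l, Commute x a := fun a ha => by
        rw [← hp]; exact (Commute.list_prod_right l a fun b hb => hc a ha b hb).symm
      intro a ha b hb
      rcases List.mem_cons.1 ha with e1 | ha <;> rcases List.mem_cons.1 hb with e2 | hb
      exacts [e1 ▸ e2 ▸ Commute.refl _, e1 ▸ hcx b hb, e2 ▸ (hcx a ha).symm, hc a ha b hb]
    · rw [List.prod_cons, hp, F.sq hx]

/-- No product of two commuting transpositions is a product of four. -/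
theorem Facts.not_fac_two_four {x : G} (h : Fac D 2 x) (h' : Fac D 4 x) : False := by
  classical
  obtain ⟨p, hn, hlen, hD, hc, rfl⟩ := h
  obtain ⟨l, hn', hlen', hD', hc', hp⟩ := h'
  match p, hlen with
  | [a, b], _ =>
    simp only [List.nodup_cons, List.mem_singleton] at hn
    have hab : a ≠ b := hn.1
    have cab : Commute a b := hc a (by simp) b (by simp)
    have ha := hD a (by simp)
    have hb := hD b (by simp)
    simp only [List.prod_cons, List.prod_nil, mul_one] at hp
    have hel : ∀ z ∈ l, Commute z a ∧ Commute z b := fun z hz =>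
      (TSet.commute_mul_iff F.tg.1 ha hb (hD' z hz) hab cab).1
        (hp ▸ Commute.list_prod_right l z fun w hw => hc' z hz w hw)
    have drop : ∀ z ∈ l, ∀ w, z * w = l.prod → w ∈ D → False := by
      intro z hz w hw hwD
      have hperm := List.perm_cons_erase hz
      have e := hperm.prod_eq' (List.pairwise_iff_forall_sublist.2
        fun h => hc' _ (h.subset (by simp)) _ (h.subset (by simp)))
      rw [← hw, List.prod_cons] at e
      exact F.not_fac_three_mem ⟨l.erase z, hn'.erase z, by rw [List.length_erase_of_mem hz, hlen'],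
        fun c hc'' => hD' c (List.mem_of_mem_erase hc''),
        fun c h1 d h2 => hc' c (List.mem_of_mem_erase h1) d (List.mem_of_mem_erase h2),
        (mul_left_cancel e).symm⟩ hwD
    have hal : a ∉ l := fun h => drop a h b hp.symm hb
    have hbl : b ∉ l := fun h => drop b h a (by rw [← cab.eq, hp]) ha
    refine F.h6 (a :: b :: l) ?_ (by simp [hlen']) ?_ ?_ ?_
    · simp [hab, hal, hbl, hn']
    · simpa [ha, hb] using hD'
    · intro u hu v hv
      simp only [List.mem_cons] at hu hv
      rcases hu with rfl | rfl | hu <;> rcases hv with rfl | rfl | hv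
      exacts [Commute.refl _, cab, (hel v hv).1.symm, cab.symm, Commute.refl _, (hel v hv).2.symm,
        (hel u hu).1, (hel u hu).2, hc' u hu v hv]
    · have := prod_sq F.tg.1 [a, b] hD hc
      rw [List.prod_cons, List.prod_cons, hp]
      simpa [mul_assoc] using this

/-- The number of factors is determined. -/
theorem Facts.length_unique {m m' : ℕ} {x : G} (h : Fac D m x) (h' : Fac D m' x) (hm : m ≤ 4)
    (hm' : m' ≤ 4) : m = m' := by
  wlog hle : m ≤ m' generalizing m m'
  · exact (this h' h hm' hm (le_of_not_ge hle)).symm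
  rcases hle.eq_or_lt with he | hlt
  · exact he
  exfalso
  have hpar := F.fac_parity h h'
  have h0 : m = 0 → x = 1 := fun e => by
    obtain ⟨l, -, hlen, -, -, rfl⟩ := h
    rw [e, List.length_eq_zero_iff] at hlen
    rw [hlen, List.prod_nil]
  have h1 : m = 1 → x ∈ D := fun e => by
    obtain ⟨l, -, hlen, hD, -, rfl⟩ := h
    match l, hlen.trans e with
    | [a], _ => simpa using hD a (by simp)
  interval_cases m' <;> interval_cases m <;>
    first
      | (exact absurd hpar (by decide))
      | (exact F.not_fac_two_one h' (h0 rfl))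
      | (exact F.not_fac_three_mem h' (h1 rfl))
      | (exact F.not_fac_two_four h h')
      | (obtain ⟨l, hn, hlen, hD, hc, hp⟩ := h'; exact F.h4 l hn hlen hD hc (hp.trans (h0 rfl)))

theorem Facts.ne_one {m : ℕ} {x : G} (h : Fac D m x) (h1 : 1 ≤ m) (h4 : m ≤ 4) : x ≠ 1 := by
  rintro rfl
  have := F.length_unique (m' := 0) h ⟨[], List.nodup_nil, rfl, by simp, by simp, rfl⟩ h4 (by norm_num)
  omega

theorem Facts.orderOf_fac {m : ℕ} {x : G} (h : Fac D m x) (h1 : 1 ≤ m) (h4 : m ≤ 4) : orderOf x = 2 := by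
  have hne := F.ne_one h h1 h4
  obtain ⟨l, -, -, hD, hc, rfl⟩ := h
  exact orderOf_eq_prime (by rw [pow_two]; exact prod_sq F.tg.1 l hD hc) hne

omit F in
theorem fac_conj (hT : Cfsg.IsThreeTranspositionGroup D) (g : G) {m : ℕ} {x : G} (h : Fac D m x) :
    Fac D m (g * x * g⁻¹) := by
  obtain ⟨l, hn, hlen, hD, hc, rfl⟩ := h
  refine ⟨l.map (MulAut.conj g), hn.map (MulAut.conj g).injective, by rw [List.length_map, hlen], ?_, ?_, ?_⟩
  · intro a ha
    obtain ⟨b, hb, rfl⟩ := List.mem_map.1 ha
    exact hT.2.1 g b (hD b hb)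
  · intro a ha b hb
    obtain ⟨c, hc', rfl⟩ := List.mem_map.1 ha
    obtain ⟨d, hd', rfl⟩ := List.mem_map.1 hb
    exact (hc c hc' d hd').map (MulAut.conj g).toMonoidHom
  · exact (map_list_prod (MulAut.conj g) l).symm

end Cfsg.Agent.FischerInvol24
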