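import Cfsg.Agent.Lib.FischerInvol24.Unique
import Cfsg.Agent.Lib.FischerUnique24.Facts

/-!
The facts hold in every group of type M(24).
-/

set_option autoImplicit false

namespace Cfsg.Agent.FischerInvol24

open Cfsg.Agent.Fischer
open Cfsg.Agent.Fischer.Factor

universe u

/-- Primitivity moves along an isomorphism. -/
theorem prim_image {X Y : Type*} [Group X] [Group Y] (e : X ≃* Y) {S : Set X}
    (h : Cfsg.IsPrimitiveUnderConj S) : Cfsg.IsPrimitiveUnderConj (e '' S) := by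
  obtain ⟨h1, ⟨a, ha, b, hb, hab⟩, h3⟩ := h
  refine ⟨?_, ⟨e a, ⟨a, ha, rfl⟩, e b, ⟨b, hb, rfl⟩, fun h => hab (e.injective h)⟩, fun B hB hblock => ?_⟩
  · rintro _ ⟨u, hu, rfl⟩ _ ⟨v, hv, rfl⟩
    obtain ⟨g, hg⟩ := h1 u hu v hv
    exact ⟨e g, by rw [← hg, map_mul, map_mul, map_inv]⟩
  · have hB' : e '' (e ⁻¹' B) = B := Set.image_preimage_eq B e.surjective
    have hsub : e ⁻¹' B ⊆ S := fun u hu => by
      obtain ⟨v, hv, he⟩ := hB hu
      exact e.injective he ▸ hv
    have hconj : ∀ g : X, (fun x => e g * x * (e g)⁻¹) '' B = e '' ((fun x => g * x * g⁻¹) '' (e ⁻¹' B)) := by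
      intro g
      conv_lhs => rw [← hB']
      rw [← Set.image_comp, ← Set.image_comp]
      exact Set.image_congr fun x _ => by simp
    have hbl : ∀ g : X, (fun x => g * x * g⁻¹) '' (e ⁻¹' B) = e ⁻¹' B ∨
        Disjoint ((fun x => g * x * g⁻¹) '' (e ⁻¹' B)) (e ⁻¹' B) := fun g => by
      rcases hblock (e g) with h | h
      · refine Or.inl (e.injective.image_injective ?_)
        rw [← hconj, h, hB']
      · refine Or.inr ((Set.disjoint_image_iff e.injective).1 ?_)
        rwa [← hconj, hB']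
    rcases h3 (e ⁻¹' B) hsub hbl with h | h
    · exact Or.inl (hB' ▸ h.image e)
    · exact Or.inr (by rw [← hB', h])

variable {G : Type u} [Group G] [Finite G] {D : Set G}

/-- A group of type M(24) satisfies the facts. -/
theorem facts_of_type (hD : Cfsg.IsThreeTranspositionGroup D) (hprim : Cfsg.IsPrimitiveUnderConj D)
    {d₀ : G} (hd₀ : d₀ ∈ D)
    (h3 : Cfsg.pCore 3 ↥(Subgroup.closure (Nb D d₀)) ≤ Subgroup.center ↥(Subgroup.closure (Nb D d₀)))
    (h2 : Cfsg.pCore 2 ↥(Subgroup.closure (Nb D d₀)) ≤ Subgroup.center ↥(Subgroup.closure (Nb D d₀)))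
    (ht : Cfsg.IsOfTypeM24 G D) : Facts D := by
  obtain ⟨h4, h6⟩ := noRel_four_six hD hprim hd₀ h3 h2 (Or.inr ht)
  obtain ⟨d', hd', C⟩ := FischerUnique24.exists_ctx hD hprim ht
  have key : ∀ d ∈ D, Cfsg.IsPrimitiveUnderConj (img D d) ∧
      (∀ g : ↥(Subgroup.closure (Nb D d)), (QuotientGroup.mk g : Q D d) = 1 → (g : G) = 1 ∨ (g : G) = d) ∧
      ∃ Φ : CosetCert.Setup.G CosetData.Fi23A.setup ≃* Q D d, Φ '' FischerPresented.Fi23.D = img D d := by
    intro d hd
    obtain ⟨f, hf⟩ := C.chart d hd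
    obtain ⟨ψ, hψ⟩ : ∃ ψ : ↥(Subgroup.closure (Nb D d)) →* _, ∀ g, ψ g = f (g : G) :=
      ⟨MonoidHom.mk' (fun g => f (g : G)) fun a b => hf.map_mul _ a.2 _ b.2, fun g => rfl⟩
    have hψs : Function.Surjective ψ := fun z => by
      obtain ⟨x, hx, rfl⟩ := hf.surj z
      exact ⟨⟨x, hx⟩, hψ _⟩
    have hker : Subgroup.center ↥(Subgroup.closure (Nb D d)) = ψ.ker := by
      ext g
      rw [← QuotientGroup.eq_one_iff, MonoidHom.mem_ker, hψ, hf.ker _ g.2]
      exact mk_eq_one_iff g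
    obtain ⟨e, he⟩ : ∃ e : Q D d ≃* _, ∀ g, e (QuotientGroup.mk g) = f (g : G) :=
      ⟨(QuotientGroup.quotientMulEquivOfEq hker).trans (QuotientGroup.quotientKerEquivOfSurjective ψ hψs),
        fun g => hψ g⟩
    have himg : e '' img D d = _ := Set.ext fun z => ⟨fun h => by
      obtain ⟨_, ⟨x, hx, rfl⟩, rfl⟩ := h
      rw [he]; exact hf.mem _ hx, fun h => by
      obtain ⟨y, hy, rfl⟩ := hf.lift z h
      exact ⟨_, ⟨⟨y, nb_subset hy⟩, hy, rfl⟩, he _⟩⟩
    have himg' : img D d = e.symm '' (e '' img D d) := by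
      rw [← Set.image_comp]
      simp
    rw [himg] at himg'
    refine ⟨by rw [himg']; exact prim_image e.symm C.low.prim, fun g hg => ?_, ?_⟩
    · rw [mk_eq_one_iff, ← hf.ker _ g.2, C.ker_iff hd hf g.2] at hg
      exact hg
    · obtain ⟨Φ, hΦ⟩ := FischerUnique23.exists_iso C.low.group C.low.prim C.low.type
      refine ⟨Φ.trans e.symm, ?_⟩
      rw [himg', ← hΦ, ← Set.image_comp]
      rfl
  obtain ⟨N, hN2, -, hNd, -⟩ := C.exists_even_subgroup
  exact
    { tg := hD
      free := fun d v hd hs => prim_sameComm_trivial hD hprim hd hs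
      trans := hprim.1
      h4 := h4
      h6 := h6
      par := ⟨N, hN2, hNd⟩
      cent := fun d hd => (C.centralizer hd).le
      kern := fun d hd => (key d hd).2.1
      qprim := fun d hd => (key d hd).1
      model := fun d hd => (key d hd).2.2 }

end Cfsg.Agent.FischerInvol24
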