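import Cfsg.Agent.Lib.FischerInvol24.Distinct
import Cfsg.Agent.Lib.FischerUnique23.Facts
import Cfsg.Agent.Lib.FischerUnique23.Pair

/-!
The joint centraliser of two commuting transpositions of a group of type M(24), mapped onto Fi22.
-/

set_option autoImplicit false
set_option maxRecDepth 100000

namespace Cfsg.Agent.FischerInvol24

open Cfsg.Agent.CosetCert
open Cfsg.Agent.Fischer
open Cfsg.Agent.Fischer.Factor
open Cfsg.Agent.Fi22Local
open Cfsg.Agent.FischerPresented
open Cfsg.Agent.FischerUnique23 (GT gT)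

local notation "W" => Fi22Class.D

universe u

variable {G : Type u} [Group G] [Finite G] {D : Set G}

/-- The map onto Fi22 at an ordered commuting pair. -/
structure PairMap (D : Set G) (d e : G) (π : ↥(Subgroup.centralizer ({d, e} : Set G)) →* GG) : Prop where
  surj : Function.Surjective π
  ker : ∀ g : ↥(Subgroup.centralizer ({d, e} : Set G)), π g = 1 ↔ (g : G) = 1 ∨ (g : G) = d ∨ (g : G) = e ∨ (g : G) = d * e
  mem : ∀ g : ↥(Subgroup.centralizer ({d, e} : Set G)), (g : G) ∈ Nb D d → (g : G) ∈ Nb D e → π g ∈ W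
  lift : ∀ w ∈ W, ∃ g : ↥(Subgroup.centralizer ({d, e} : Set G)), (g : G) ∈ Nb D d ∧ (g : G) ∈ Nb D e ∧ π g = w

variable (F : Facts D)
include F

theorem Facts.pair_map {d e : G} (hd : d ∈ D) (he : e ∈ Nb D d) :
    ∃ π, PairMap D d e π := by
  have htq := img_group F.tg F.trans F.free hd
  obtain ⟨Φ, hΦ⟩ := F.model d hd
  obtain ⟨eK, heK⟩ : ∃ eK : ↥(Subgroup.closure (Nb D d)), (eK : G) = e := ⟨⟨e, nb_subset he⟩, rfl⟩
  have heN : (eK : G) ∈ Nb D d := heK.symm ▸ he
  set eb : Q D d := QuotientGroup.mk eK with heb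
  have hebI : eb ∈ img D d := ⟨eK, heN, rfl⟩
  obtain ⟨y, hy, hye⟩ := hΦ.ge hebI
  obtain ⟨g₀, rfl⟩ := Fi23.mem_D.1 hy
  obtain ⟨T, hTd⟩ : ∃ T : GT ≃* Q D d, T = (MulAut.conj g₀).trans Φ := ⟨_, rfl⟩
  have hTz : T Fi23.z = eb := by rw [hTd]; exact hye
  have hTD : ∀ x, T x ∈ img D d ↔ x ∈ Fi23.D := fun x => by
    rw [← hΦ, hTd]
    show Φ (g₀ * x * g₀⁻¹) ∈ Φ '' Fi23.D ↔ _
    rw [Set.mem_image]
    constructor
    · rintro ⟨w, hw, e⟩
      rw [Φ.injective e] at hw
      have := FischerUnique23.D23_group.2.1 g₀⁻¹ _ hw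
      simpa [mul_assoc] using this
    · intro hx
      exact ⟨_, FischerUnique23.D23_group.2.1 g₀ x hx, rfl⟩
  -- the joint centraliser inside the first centraliser
  obtain ⟨ι, hι⟩ : ∃ ι : ↥(Subgroup.centralizer ({d, e} : Set G)) →* ↥(Subgroup.closure (Nb D d)),
      ∀ g, (ι g : G) = g := by
    have hle : Subgroup.centralizer ({d, e} : Set G) ≤ Subgroup.closure (Nb D d) := fun g hg =>
      F.cent d hd (Subgroup.mem_centralizer_singleton_iff.2 (Subgroup.mem_centralizer_iff.1 hg d (Or.inl rfl)).symm)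
    exact ⟨Subgroup.inclusion hle, fun g => rfl⟩
  have hιK : ∀ g, T.symm (QuotientGroup.mk (ι g)) ∈ Fi23.K := fun g => by
    rw [← Fi23.centralizer_z, Subgroup.mem_centralizer_singleton_iff]
    apply T.injective
    rw [map_mul, map_mul, T.apply_symm_apply, hTz, heb, ← QuotientGroup.mk_mul, ← QuotientGroup.mk_mul]
    refine congrArg _ (Subtype.ext ?_)
    rw [Subgroup.coe_mul, Subgroup.coe_mul, hι, heK]
    exact (Subgroup.mem_centralizer_iff.1 g.2 e (Or.inr rfl)).symm
  obtain ⟨j, hj⟩ : ∃ j : ↥(Subgroup.centralizer ({d, e} : Set G)) →* ↥Fi23.K,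
      ∀ g, (j g : GT) = T.symm (QuotientGroup.mk (ι g)) :=
    ⟨((T.symm.toMonoidHom.comp (QuotientGroup.mk' _)).comp ι).codRestrict Fi23.K hιK, fun g => rfl⟩
  obtain ⟨π₁, hs, hgen, hker⟩ := FischerUnique23.exists_pi
  -- kernel
  have hk : ∀ g : ↥(Subgroup.centralizer ({d, e} : Set G)), π₁ (j g) = 1 ↔ (g : G) = 1 ∨ (g : G) = d ∨ (g : G) = e ∨ (g : G) = d * e := by
    intro g
    rw [hker]
    constructor
    · intro h
      rcases h with h | h
      · have h1 := congrArg Subtype.val h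
        rw [hj, Subgroup.coe_one, map_eq_one_iff _ T.symm.injective] at h1
        rcases F.kern d hd _ h1 with h2 | h2 <;> rw [hι] at h2
        · exact Or.inl h2
        · exact Or.inr (Or.inl h2)
      · have h1 := congrArg Subtype.val h
        rw [hj, show (Fi23.zK : GT) = Fi23.z from rfl, MulEquiv.symm_apply_eq, hTz, heb] at h1
        have h3 : (QuotientGroup.mk (ι g * eK⁻¹) : Q D d) = 1 := by
          rw [QuotientGroup.mk_mul, QuotientGroup.mk_inv, h1, mul_inv_cancel]
        rcases F.kern d hd _ h3 with h2 | h2 <;>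
          rw [Subgroup.coe_mul, Subgroup.coe_inv, hι, heK, mul_inv_eq_iff_eq_mul] at h2
        · exact Or.inr (Or.inr (Or.inl (by rw [h2, one_mul])))
        · exact Or.inr (Or.inr (Or.inr h2))
    · have hd1 : ∀ u : ↥(Subgroup.closure (Nb D d)), (u : G) = d → (QuotientGroup.mk u : Q D d) = 1 :=
        fun u hu => (mk_eq_one_iff u).2 fun y hy => by rw [hu]; exact hy.2.2
      rintro (h | h | h | h)
      · exact Or.inl (by rw [show g = 1 from Subtype.ext h, map_one])
      · refine Or.inl (Subtype.ext ?_)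
        rw [hj, hd1 _ ((hι g).trans h), map_one, Subgroup.coe_one]
      · refine Or.inr (Subtype.ext ?_)
        rw [hj, show ι g = eK from Subtype.ext ((hι g).trans (h.trans heK.symm)), ← heb, ← hTz,
          T.symm_apply_apply]
        rfl
      · refine Or.inr (Subtype.ext ?_)
        have hm : (QuotientGroup.mk (ι g * eK⁻¹) : Q D d) = 1 :=
          hd1 _ (by rw [Subgroup.coe_mul, Subgroup.coe_inv, hι, h, heK, mul_inv_cancel_right])
        rw [QuotientGroup.mk_mul, QuotientGroup.mk_inv, mul_inv_eq_one] at hm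
        rw [hj, hm, ← heb, ← hTz, T.symm_apply_apply]
        rfl
  -- surjectivity onto the centraliser of the image of e
  have hsurj : ∀ k : ↥Fi23.K, ∃ g, j g = k := by
    intro k
    obtain ⟨u, hu⟩ := QuotientGroup.mk_surjective (T (k : GT))
    have hcu : Commute d (u : G) := commute_of_mem_closure_nb u.2
    have hN : (u : G) * e * (u : G)⁻¹ ∈ Nb D d := by
      have := nb_conj F.tg (u : G) he
      rwa [hcu.symm.eq, mul_inv_cancel_right] at this
    have heq : (QuotientGroup.mk (u * eK * u⁻¹) : Q D d) = QuotientGroup.mk eK := by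
      have hk' : (k : GT) * Fi23.z = Fi23.z * (k : GT) :=
        Subgroup.mem_centralizer_singleton_iff.1 (Fi23.centralizer_z.ge k.2)
      rw [QuotientGroup.mk_mul, QuotientGroup.mk_mul, QuotientGroup.mk_inv, hu, ← heb, ← hTz,
        ← map_mul, hk', map_mul, mul_inv_cancel_right]
    have he2 : (u : G) * e = e * (u : G) := by
      have h2 := congrArg Subtype.val
        (img_inj F.tg F.trans F.free hd (x := u * eK * u⁻¹) (by simpa [heK] using hN) heN heq)
      simp only [Subgroup.coe_mul, Subgroup.coe_inv, heK] at h2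
      exact mul_inv_eq_iff_eq_mul.1 h2
    refine ⟨⟨u, Subgroup.mem_centralizer_iff.2 ?_⟩, Subtype.ext ?_⟩
    · rintro v (rfl | rfl)
      · exact hcu.eq
      · exact he2.symm
    · rw [hj, MulEquiv.symm_apply_eq, ← hu]
      exact congrArg _ (Subtype.ext (hι _))
  have hg0 : ((Fi23.gK 0 : Fi23.K) : GT) = gT 0 := Fi23.gK_coe (by norm_num)
  have hg0N : gT 0 ∈ Nb Fi23.D Fi23.z := FischerUnique23.gen_nb 0 (by norm_num)
  have hπ0 : π₁ (Fi23.gK 0) = Fi22Class.z := by rw [hgen 0 (by norm_num), FischerUnique23.gn_zero]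
  refine ⟨π₁.comp j, ⟨fun w => ?_, hk, fun g hgd hge => ?_, fun w hw => ?_⟩⟩
  · obtain ⟨k, rfl⟩ := hs w
    obtain ⟨g, rfl⟩ := hsurj k
    exact ⟨g, rfl⟩
  · set a : Q D d := QuotientGroup.mk (ι g) with ha
    have hgd' : (ι g : G) ∈ Nb D d := (hι g).symm ▸ hgd
    have haN : a ∈ Nb (img D d) eb := by
      refine ⟨⟨ι g, hgd', rfl⟩, fun h => hge.2.1 ?_, ?_⟩
      · have := congrArg Subtype.val (img_inj F.tg F.trans F.free hd hgd' heN h)
        rwa [hι, heK] at this
      · exact (mk_commute_iff F.tg.1 heN.1 hgd'.1).2 (by rw [heK, hι]; exact hge.2.2)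
    have hbN : T (gT 0) ∈ Nb (img D d) eb :=
      ⟨(hTD _).2 hg0N.1, fun h => hg0N.2.1 (T.injective (h.trans hTz.symm)),
        hTz ▸ hg0N.2.2.map T.toMonoidHom⟩
    obtain ⟨k, hk', hka⟩ := prim_trans_commuting htq (F.qprim d hd)
      ⟨eb, hebI, a, haN.1, haN.2.1.symm, haN.2.2⟩ hebI _ hbN _ haN
    have hkK : T.symm k ∈ Fi23.K := by
      rw [← Fi23.centralizer_z, Subgroup.mem_centralizer_singleton_iff]
      apply T.injective
      rw [map_mul, map_mul, T.apply_symm_apply, hTz]
      exact (commute_of_mem_closure_nb hk').symm.eq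
    have e1 : j g = ⟨T.symm k, hkK⟩ * Fi23.gK 0 * ⟨T.symm k, hkK⟩⁻¹ := by
      refine Subtype.ext ?_
      rw [hj, Subgroup.coe_mul, Subgroup.coe_mul, Subgroup.coe_inv, hg0, MulEquiv.symm_apply_eq]
      simp only [map_mul, map_inv, T.apply_symm_apply]
      exact hka.symm
    show π₁ (j g) ∈ W
    rw [e1, map_mul, map_mul, map_inv, hπ0]
    exact Fi22Class.mem_D.2 ⟨_, rfl⟩
  · obtain ⟨w', rfl⟩ := Fi22Class.mem_D.1 hw
    obtain ⟨k, rfl⟩ := hs w'
    obtain ⟨g, hg⟩ := hsurj (k * Fi23.gK 0 * k⁻¹)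
    have hkz : Commute Fi23.z (k : GT) :=
      (Subgroup.mem_centralizer_singleton_iff.1 (Fi23.centralizer_z.ge k.2)).symm
    have hv : (j g : GT) ∈ Nb Fi23.D Fi23.z := by
      rw [hg, Subgroup.coe_mul, Subgroup.coe_mul, Subgroup.coe_inv, hg0]
      have := nb_conj FischerUnique23.D23_group (k : GT) hg0N
      rwa [hkz.symm.eq, mul_inv_cancel_right] at this
    have hTv : (QuotientGroup.mk (ι g) : Q D d) ∈ img D d := by
      have := (hTD _).2 hv.1
      rwa [hj, T.apply_symm_apply] at this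
    obtain ⟨x, hx, hxm⟩ := hTv
    -- the member with that image
    obtain ⟨a, ha⟩ : ∃ a : ↥(Subgroup.centralizer ({d, e} : Set G)), (a : G) = x := by
      refine ⟨⟨x, Subgroup.mem_centralizer_iff.2 ?_⟩, rfl⟩
      rintro v (rfl | rfl)
      · exact hx.2.2.eq
      · have hcm : Commute (QuotientGroup.mk x : Q D d) eb := by
          rw [hxm, ← hTz, show (QuotientGroup.mk (ι g) : Q D d) = T (j g : GT) by
            rw [hj, T.apply_symm_apply]]
          exact hv.2.2.symm.map T.toMonoidHom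
        have := (mk_commute_iff F.tg.1 hx.1 heN.1).1 hcm
        rw [heK] at this
        exact this.symm.eq
    have haj : j a = j g := Subtype.ext (by
      rw [hj, hj, show ι a = x from Subtype.ext ((hι a).trans ha), hxm])
    refine ⟨a, ha ▸ hx, ⟨ha ▸ hx.1, fun h => ?_, (Subgroup.mem_centralizer_iff.1 a.2 e (Or.inr rfl))⟩, ?_⟩
    · refine hv.2.1 ?_
      rw [← haj, hj, MulEquiv.symm_apply_eq, hTz, heb,
        show ι a = eK from Subtype.ext ((hι a).trans (h.trans heK.symm))]
    · show π₁ (j a) = _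
      rw [haj, hg, map_mul, map_mul, map_inv, hπ0]

end Cfsg.Agent.FischerInvol24
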