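import Cfsg.Agent.Lib.FischerInvol24.Classes

/-!
A group of type M(24) has only one class of transpositions generating it.
-/

set_option autoImplicit false
set_option maxRecDepth 100000

namespace Cfsg.Agent.FischerInvol24

open Cfsg.Agent.CosetCert
open Cfsg.Agent.Fischer
open Cfsg.Agent.Fischer.Factor
open Cfsg.Agent.Fi22Local
open Cfsg.Agent.FischerPresented
open Cfsg.Agent.FischerUnique.InvolutionClasses (Fac)

/-- Two triples of commuting transpositions of Fi22 whose products multiply to order above three. -/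
def triA : List ℕ := [0, 7, 54]

/-- The second triple. -/
def triB : List ℕ := [2, 18, 134]

/-- The word of a triple. -/
noncomputable def triW (l : List ℕ) : List ℕ := l.flatMap trW

theorem tri_ok : ((triA :: [triB]).all fun l => l.all fun a => Nat.blt a 3510 &&
    l.all fun b => Nat.beq (tapp a b) b) = true := by
  decide +kernel

theorem tri_move : (wok (rep 2 (triW triB ++ triW triA)) && wok (rep 3 (triW triB ++ triW triA)) &&
    ((List.range 3510).any fun p => !Nat.beq (act (rep 2 (triW triB ++ triW triA)) p) p) &&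
    ((List.range 3510).any fun p => !Nat.beq (act (rep 3 (triW triB ++ triW triA)) p) p)) = true := by
  decide +kernel

theorem el_triW : ∀ l : List ℕ, el (triW l) = (l.reverse.map trN).prod
  | [] => by simp [triW, el_nil]
  | a :: l => by
    have h : triW (a :: l) = trW a ++ triW l := List.flatMap_cons ..
    rw [h, el_append, List.reverse_cons, List.map_append, List.prod_append, el_triW l, List.map_cons,
      List.map_nil, List.prod_singleton, trN]

/-- The witness in Fi22. -/
theorem tri_witness : ∃ l l' : List GG, (l.Nodup ∧ l.length = 3 ∧ (∀ a ∈ l, a ∈ Fi22Class.D) ∧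
      ∀ a ∈ l, ∀ b ∈ l, Commute a b) ∧
    (l'.Nodup ∧ l'.length = 3 ∧ (∀ a ∈ l', a ∈ Fi22Class.D) ∧ ∀ a ∈ l', ∀ b ∈ l', Commute a b) ∧
    (l.prod * l'.prod) ^ 2 ≠ 1 ∧ (l.prod * l'.prod) ^ 3 ≠ 1 := by
  have hok := tri_ok
  simp only [List.all_eq_true, Bool.and_eq_true, Nat.blt_eq, Nat.beq_eq] at hok
  have hl : ∀ t ∈ triA :: [triB], t.Nodup → t.length = 3 →
      (t.reverse.map trN).Nodup ∧ (t.reverse.map trN).length = 3 ∧
        (∀ a ∈ t.reverse.map trN, a ∈ Fi22Class.D) ∧
        ∀ a ∈ t.reverse.map trN, ∀ b ∈ t.reverse.map trN, Commute a b := by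
    intro t ht hn hlen
    have hlt : ∀ a ∈ t.reverse, a < 3510 := fun a ha => (hok t ht a (List.mem_reverse.1 ha)).1
    refine ⟨(List.nodup_reverse.2 hn).map_on fun a ha b hb h => trN_inj (hlt a ha) (hlt b hb) h,
      by simp [hlen], ?_, ?_⟩
    · intro u hu
      obtain ⟨a, ha, rfl⟩ := List.mem_map.1 hu
      exact trN_mem (hlt a ha)
    · intro u hu v hv
      obtain ⟨a, ha, rfl⟩ := List.mem_map.1 hu
      obtain ⟨b, hb, rfl⟩ := List.mem_map.1 hv
      exact (FischerUnique23.tapp_self_iff (hlt a ha) (hlt b hb)).1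
        ((hok t ht a (List.mem_reverse.1 ha)).2 b (List.mem_reverse.1 hb))
  refine ⟨_, _, hl triA (by simp) (by decide) rfl, hl triB (by simp) (by decide) rfl, ?_, ?_⟩
  all_goals
    rw [← el_triW, ← el_triW, ← el_append, ← el_rep]
    intro h
    have hm := tri_move
    simp only [Bool.and_eq_true, List.any_eq_true, List.mem_range, Bool.not_eq_true',
      ← Bool.not_eq_true, Nat.beq_eq] at hm
    obtain ⟨⟨⟨w2, w3⟩, ⟨p, hp, hp2⟩⟩, ⟨q, hq, hq3⟩⟩ := hm
    first
      | exact hp2 (by rw [← apt_el w2 hp, h, apt_one])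
      | exact hq3 (by rw [← apt_el w3 hq, h, apt_one])

universe u

variable {G : Type u} [Group G] [Finite G] {D : Set G} (F : Facts D)
include F

/-- No other class of transpositions generates. -/
theorem Facts.class_unique (hne : D.Nonempty) {D' : Set G} (hD' : Cfsg.IsThreeTranspositionClass D') :
    D' = D := by
  obtain ⟨d, hd, e, he⟩ := F.exists_nb_pair hne
  have hG' := TClass.toGroup hD'
  have htr := fun a ha b hb => TClass.transitive hD' a ha b hb
  obtain ⟨x, hx⟩ : D'.Nonempty := by obtain ⟨x, hx, -⟩ := hD'.2.1; exact ⟨x, hx⟩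
  have hox : orderOf x = 2 := hG'.1.1 x hx
  obtain ⟨m, h1, h4, hfx⟩ := F.exists_fac hox hd
  have hall : ∀ y ∈ D', Fac D m y := fun y hy => by
    obtain ⟨c, rfl⟩ := htr x hx y hy
    exact fac_conj F.tg c hfx
  have hmem : ∀ y, Fac D m y → y ∈ D' := fun y hy => by
    obtain ⟨c, rfl⟩ := isConj_iff.1 (F.fac_conjugate hd he h1 h4 hfx hy)
    exact hG'.2.1 c x hx
  rcases (show Even m ∨ m = 1 ∨ m = 3 by interval_cases m <;> simp [Nat.even_iff]) with hev | rfl | rfl
  · exfalso
    obtain ⟨N, hN⟩ := F.mem_par_iff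
    have htop : (⊤ : Subgroup G) ≤ N := by
      rw [← hG'.2.2, Subgroup.closure_le]
      intro y hy
      obtain ⟨l, -, hlen, hD, -, rfl⟩ := hall y hy
      exact (hN l hD).2 (hlen ▸ hev)
    have h0 := (hN [d] (by simp [hd])).1 (htop (Subgroup.mem_top _))
    simp at h0
  · refine Set.ext fun y => ⟨fun hy => ?_, fun hy => hmem y ?_⟩
    · obtain ⟨l, -, hlen, hD, -, rfl⟩ := hall y hy
      match l, hlen with
      | [a], _ => simpa using hD a (by simp)
    · exact ⟨[y], List.nodup_singleton y, rfl, by simp [hy], by simp, by simp⟩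
  · exfalso
    obtain ⟨π, P⟩ := F.pair_map hd he
    obtain ⟨l, l', ⟨hn, hlen, hW, hc⟩, ⟨hn', hlen', hW', hc'⟩, h2, h3⟩ := tri_witness
    obtain ⟨L, hL, hLn, hLD, -, hLc⟩ := F.lift_list hd he P hn hW hc
    obtain ⟨M, hM, hMn, hMD, -, hMc⟩ := F.lift_list hd he P hn' hW' hc'
    have ha : (L.prod : G) ∈ D' := hmem _ ⟨_, hLn, by rw [List.length_map, ← List.length_map π, hL, hlen],
      hLD, hLc, (Subgroup.val_list_prod _ L).symm⟩
    have hb : (M.prod : G) ∈ D' := hmem _ ⟨_, hMn, by rw [List.length_map, ← List.length_map π, hM, hlen'],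
      hMD, hMc, (Subgroup.val_list_prod _ M).symm⟩
    rcases hG'.1.2 _ ha _ hb with h | h
    · refine h2 ?_
      rw [← hL, ← hM, ← map_list_prod, ← map_list_prod, ← map_mul, ← map_pow,
        show (L.prod * M.prod) ^ 2 = 1 from Subtype.ext h, map_one]
    · refine h3 ?_
      rw [← hL, ← hM, ← map_list_prod, ← map_list_prod, ← map_mul, ← map_pow,
        show (L.prod * M.prod) ^ 3 = 1 from Subtype.ext h, map_one]

end Cfsg.Agent.FischerInvol24
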